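import Groth.Agent.Lib.NeronIsog24.Main
import Groth.Agent.Lib.GrpDeligne.Factor
import Groth.Agent.Lib.AbMul.EtalePow
import Groth.Agent.Lib.EtBasicB.OverField
import Mathlib

/-!
# Isogenies of invertible degree between Neron models
-/

set_option autoImplicit false
set_option linter.style.haveILetI false
set_option backward.isDefEq.respectTransparency false
set_option backward.isDefEq.respectTransparency.types false

universe u

open CategoryTheory CategoryTheory.Limits MonoidalCategory CartesianMonoidalCategory MonObj AlgebraicGeometry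

namespace GrothLib.NeronIsog24

/-- A Néron model of a commutative group is commutative. -/
theorem isCommMonObj_of_neron (R : Type u) [CommRing R] (A : Over (Spec (CommRingCat.of R))) [GrpObj A]
    [Smooth A.hom] [IsCommMonObj ((Neron.genericFibre R).obj A)]
    (hA : Neron.IsNeronModelOf R A ((Neron.genericFibre R).obj A) (Iso.refl _)) : IsCommMonObj A := by
  haveI : Smooth (A ⊗ A).hom := by
    rw [← Over.w (fst A A)]
    haveI : Smooth (fst A A).left := inferInstanceAs (Smooth (pullback.fst A.hom A.hom))
    infer_instance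
  have h := (hA.2.2.2.2 (A ⊗ A) inferInstance).1
  have e : fst A A * snd A A = snd A A * fst A A := by
    apply h
    simp only [Iso.refl_hom, Category.comp_id]
    rw [Functor.map_mul, Functor.map_mul, _root_.mul_comm]
  constructor
  have h1 : fst A A * snd A A = μ[A] := by rw [Hom.mul_def, lift_fst_snd, Category.id_comp]
  have h2 : (β_ A A).hom ≫ μ[A] = snd A A * fst A A := by
    rw [← h1, MonObj.comp_mul]
    simp
  rw [h2, ← e, h1]

variable (R : Type u) [CommRing R] [IsDomain R] [IsNoetherianRing R]

/-- The degree of an isogeny kills, so is inverted by a homomorphism back. -/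
theorem etale_of_degree_isUnit {A B : Over (Spec (CommRingCat.of R))} [GrpObj A] [GrpObj B]
    [IsProper ((Neron.genericFibre R).obj A).hom] [GeometricallyIntegral ((Neron.genericFibre R).obj A).hom]
    [IsProper ((Neron.genericFibre R).obj B).hom] [GeometricallyIntegral ((Neron.genericFibre R).obj B).hom]
    (hA : Neron.IsNeronModelOf R A ((Neron.genericFibre R).obj A) (Iso.refl _))
    [Smooth A.hom] [Smooth B.hom]
    (φ : A ⟶ B) [IsMonHom φ] (hφ : SGA7.IsIsogenyOver ((Neron.genericFibre R).map φ))
    (N : Over (Spec (CommRingCat.of R))) (i : N ⟶ A) (hN : AlgGrp.IsKernel i φ)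
    (hdeg : ∀ x : ↥(Spec (CommRingCat.of (FractionRing R))),
      IsUnit ((((Neron.genericFibre R).obj N).hom.finrank x : ℕ) : R)) :
    Etale φ.left := by
  haveI : IsCommMonObj ((Neron.genericFibre R).obj A) :=
    isCommMonObj_of_isProper_of_geometricallyIntegral _
  haveI : IsCommMonObj ((Neron.genericFibre R).obj B) :=
    isCommMonObj_of_isProper_of_geometricallyIntegral _
  haveI := isCommMonObj_of_neron R A hA
  haveI : Smooth ((Neron.genericFibre R).obj B).hom := MorphismProperty.pullback_snd B.hom _ ‹Smooth B.hom›
  obtain ⟨_, _⟩ := isogeny_field _ hφ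
  haveI : Surjective ((Neron.genericFibre R).map φ).left := hφ.1
  haveI : IsLocallyNoetherian ((Neron.genericFibre R).obj B).left :=
    LocallyOfFiniteType.isLocallyNoetherian ((Neron.genericFibre R).obj B).hom
  haveI : LocallyOfFinitePresentation ((Neron.genericFibre R).map φ).left := inferInstance
  haveI : IsIntegral ((Neron.genericFibre R).obj B).left :=
    GeometricallyIntegral.isIntegral_of_subsingleton ((Neron.genericFibre R).obj B).hom
  -- the kernel of the generic fibre
  obtain ⟨_, _⟩ := GrothLib.GrpDeligne.exists_grpObj_kernel φ i hN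
  have sq := (GrothLib.KerDiag14.mapped_squares φ i hN).2.2
  let s : Spec (CommRingCat.of (FractionRing R)) ⟶ ((Neron.genericFibre R).obj B).left :=
    pullback.lift (Neron.genPt R ≫ η[B].left) (𝟙 _) (by
      rw [Category.assoc, Category.id_comp]
      exact (congrArg (fun k => Neron.genPt R ≫ k) (Over.w η[B])).trans (Category.comp_id _))
  have hs : s ≫ pullback.fst B.hom (Neron.genPt R) = Neron.genPt R ≫ η[B].left := pullback.lift_fst _ _ _
  have sqφ : IsPullback ((Neron.genericFibre R).map φ).left (pullback.fst A.hom (Neron.genPt R))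
      (pullback.fst B.hom (Neron.genPt R)) φ.left :=
    GrothLib.FibreLocus.isPullback_map_left φ (Neron.genPt R)
  have sqN : IsPullback (pullback.fst N.hom (Neron.genPt R)) ((Neron.genericFibre R).obj N).hom N.hom (Neron.genPt R) :=
    IsPullback.of_hasPullback _ _
  have hbig : IsPullback (pullback.fst N.hom (Neron.genPt R) ≫ i.left) ((Neron.genericFibre R).obj N).hom φ.left
      (s ≫ pullback.fst B.hom (Neron.genPt R)) := by
    rw [hs]
    exact sqN.paste_horiz sq
  obtain ⟨j, hj⟩ : ∃ j : ((Neron.genericFibre R).obj N).left ⟶ ((Neron.genericFibre R).obj A).left,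
      IsPullback j ((Neron.genericFibre R).obj N).hom ((Neron.genericFibre R).map φ).left s := by
    refine ⟨sqφ.lift (((Neron.genericFibre R).obj N).hom ≫ s) (pullback.fst N.hom (Neron.genPt R) ≫ i.left)
      (by rw [Category.assoc]; exact hbig.w.symm), ?_⟩
    refine IsPullback.of_right ?_ (sqφ.lift_fst _ _ _) sqφ.flip
    rwa [sqφ.lift_snd]
  let n : ℕ := ((Neron.genericFibre R).map φ).left.finrank (s default)
  have hn : ∀ y, ((Neron.genericFibre R).map φ).left.finrank y = n := fun y =>
    (Scheme.Hom.isLocallyConstant_finrank ((Neron.genericFibre R).map φ).left).apply_eq_of_preconnectedSpace _ _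
  have hunit : IsUnit ((n : ℕ) : R) := by
    have := hdeg default
    rwa [Scheme.Hom.finrank_of_isPullback _ _ _ _ hj, hn] at this
  obtain ⟨gK, -, hgK, -⟩ := GrothLib.GrpDeligne.exists_dual_hom ((Neron.genericFibre R).map φ) n fun t => hn _
  obtain ⟨g, hg⟩ := (hA.2.2.2.2 B inferInstance).2 gK
  have hg' : (Neron.genericFibre R).map g = gK := by simpa using hg
  have hφg : φ ≫ g = 𝟙 A ^ (n : ℤ) := by
    apply (hA.2.2.2.2 A inferInstance).1
    simp only [Iso.refl_hom, Category.comp_id]
    rw [zpow_natCast, Functor.map_comp, hg', hgK, ← CategoryTheory.Functor.map_id]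
    exact (map_pow ((Neron.genericFibre R).homMonoidHom (X := A) (M := A)) (𝟙 A) n).symm
  have hu : IsUnit ((n : ℤ) : Γ(Spec (CommRingCat.of R), ⊤)) := by
    have := hunit.map (Scheme.ΓSpecIso (CommRingCat.of R)).inv.hom
    rw [map_natCast] at this
    rwa [Int.cast_natCast]
  haveI : Etale (φ.left ≫ g.left) := by
    rw [← Over.comp_left, hφg]
    exact GrothLib.AbMul.etale_pow_relative A (n : ℤ) hu
  haveI : FormallyUnramified φ.left := FormallyUnramified.of_comp φ.left g.left
  haveI : Smooth (φ.left ≫ B.hom) := by rw [Over.w]; infer_instance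
  haveI : LocallyOfFiniteType φ.left := locallyOfFiniteType_of_comp φ.left B.hom
  haveI : IsLocallyNoetherian B.left := LocallyOfFiniteType.isLocallyNoetherian B.hom
  haveI : LocallyOfFinitePresentation φ.left := inferInstance
  haveI : LocallyQuasiFinite φ.left := GrothLib.EtBasicB.locallyQuasiFinite_of_unramified φ.left
  haveI : Flat φ.left := (lqf_iff_flat R A B φ hφ).1 ‹_›
  exact Etale.of_formallyUnramified_of_flat φ.left

end GrothLib.NeronIsog24
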