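import Groth.Agent.S2082
import Groth.Agent.Lib.Equidim6.RelDim
import Groth.Agent.Lib.CMMor6.Chart
import Groth.Agent.Lib.AlgSp.FibreDimBC
import Groth.Agent.Lib.AlgSp.FibreDimZero
import Groth.Agent.Lib.AlgSp.FieldFibreDim
import Groth.Agent.Lib.AlgSp.RelDimSpace
import Groth.Agent.Lib.UnrMono.FibreEtale
import Groth.Agent.Lib.WeilExt.Extend
import Groth.Agent.Lib.FibreFlat.Fibrewise
import Mathlib

/-!
# Quasi-finite morphisms between smooth schemes of the same relative dimension
-/

set_option autoImplicit false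
set_option linter.style.haveILetI false
set_option backward.isDefEq.respectTransparency false
set_option backward.isDefEq.respectTransparency.types false

universe u

open CategoryTheory CategoryTheory.Limits AlgebraicGeometry IsLocalRing

namespace GrothLib.NeronIsog24

variable {X Y S : Scheme.{u}}

theorem exists_nat_fibreDimAt (p : X ⟶ S) [Smooth p] (x : X) : ∃ n : ℕ, FlatMor.fibreDimAt p x = (n : WithBot ℕ∞) := by
  obtain ⟨n, W, hx, hW⟩ := GrothLib.AlgSp.exists_open_fibreDimAt_eq_of_smooth p x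
  exact ⟨n, hW x hx⟩

theorem fibreDimAt_eq_of_specializes (p : X ⟶ S) [Smooth p] {x' x : X} (h : x' ⤳ x) :
    FlatMor.fibreDimAt p x' = FlatMor.fibreDimAt p x := by
  obtain ⟨n, W, hx, hW⟩ := GrothLib.AlgSp.exists_open_fibreDimAt_eq_of_smooth p x
  rw [hW x hx, hW x' (h.mem_open W.2 hx)]

/-- Over a field, a quasi-finite morphism between regular schemes is flat where it preserves the local dimension. -/
theorem flat_stalkMap_of_lqf_localDim {K : Type u} [Field K] (f : X ⟶ Y) (q : Y ⟶ Spec (CommRingCat.of K))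
    [LocallyOfFiniteType q] [LocallyOfFiniteType f] [LocallyQuasiFinite f] (x : X)
    (hX : IsRegularLocalRing (X.presheaf.stalk x)) (hY : IsRegularLocalRing (Y.presheaf.stalk (f x)))
    (hd : FlatMor.localDim X x = FlatMor.localDim Y (f x)) : (f.stalkMap x).hom.Flat := by
  haveI : IsLocallyNoetherian Y := LocallyOfFiniteType.isLocallyNoetherian q
  haveI : IsLocallyNoetherian X := LocallyOfFiniteType.isLocallyNoetherian f
  letI : Algebra (Y.presheaf.stalk (f x)) (X.presheaf.stalk x) := (f.stalkMap x).hom.toAlgebra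
  haveI : IsLocalHom (algebraMap (Y.presheaf.stalk (f x)) (X.presheaf.stalk x)) :=
    inferInstanceAs (IsLocalHom (f.stalkMap x).hom)
  haveI := hX
  haveI := hY
  haveI : LocCoh.IsCohenMacaulayLocalRing (X.presheaf.stalk x) := by
    obtain ⟨rs, h1, h2, h3⟩ := GrothLib.CMFree.exists_weaklyRegular_of_isRegularLocalRing (X.presheaf.stalk x)
    exact GrothLib.CMFree.isCohenMacaulayLocalRing_of_weaklyRegular _ rs h1 h2 h3.ge
  haveI : LocallyOfFiniteType (f.fiberToSpecResidueField (f x)) := MorphismProperty.pullback_snd f _ inferInstance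
  have h0 : FlatMor.localDim (f.fiber (f x)) (f.asFiber x) ≤ 0 := (GrothLib.AlgSp.lqf_iff_fibreDimAt f).1 ‹_› x
  have hd0 : ringKrullDim ((f.fiber (f x)).presheaf.stalk (f.asFiber x)) = 0 :=
    le_antisymm ((GrothLib.AlgSp.ringKrullDim_stalk_le_localDim _).trans h0) ringKrullDim_nonneg_of_nontrivial
  have hp0 : GrothLib.AffDom.ptDim (f.asFiber x) = 0 := by
    refine le_antisymm ?_ (GrothLib.AffDom.ptDim_nonneg _)
    have := (GrothLib.AffDom.localDim_eq (K := Y.residueField (f x)) (f.fiberToSpecResidueField (f x)) (f.asFiber x)).symm.trans_le h0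
    rwa [hd0, add_zero] at this
  obtain ⟨e⟩ := GrothLib.CMMor6.nonempty_fibQuot_equiv f x
  rw [GrothLib.AffDom.localDim_eq (f ≫ q) x, GrothLib.AffDom.localDim_eq q (f x),
    GrothLib.AffDom.ptDim_eq_add f q x, hp0, add_zero] at hd
  obtain ⟨n, hn⟩ := GrothLib.AffDom.exists_nat_ptDim q (f x)
  rw [hn] at hd
  refine Groth.Agent.S2082.result ?_
  rw [GrothLib.UnrMono.natCast_add_left_cancel n hd]
  exact ((congrArg (ringKrullDim (Y.presheaf.stalk (f x)) + ·) ((ringKrullDim_eq_of_ringEquiv e).trans hd0)).trans (add_zero _)).symm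

/-- A quasi-finite morphism between smooth schemes of the same fibre dimensions is flat. -/
theorem flat_of_lqf (f : X ⟶ Y) (g : Y ⟶ S) [Smooth g] [Smooth (f ≫ g)] [LocallyQuasiFinite f]
    (hd : ∀ x, FlatMor.fibreDimAt (f ≫ g) x = FlatMor.fibreDimAt g (f x)) : Flat f := by
  haveI : LocallyOfFiniteType f := locallyOfFiniteType_of_comp f g
  refine GrothLib.FibreFlat.flat_of_fibrewise' f g fun s => (GrothLib.FibreFlat.prop_fiberMap_iff f g s).1 ?_
  let m : (f ≫ g).fiber s ⟶ g.fiber s := MoreMor.fiberMap f g s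
  haveI : LocallyQuasiFinite m := (GrothLib.FibreFlat.prop_fiberMap_iff (P := @LocallyQuasiFinite) f g s).2
    (MorphismProperty.pullback_snd f _ ‹_›)
  haveI : LocallyOfFiniteType m := (GrothLib.FibreFlat.prop_fiberMap_iff (P := @LocallyOfFiniteType) f g s).2
    (MorphismProperty.pullback_snd f _ ‹_›)
  haveI : Smooth (g.fiberToSpecResidueField s) := MorphismProperty.pullback_snd g _ ‹Smooth g›
  haveI : Smooth ((f ≫ g).fiberToSpecResidueField s) := MorphismProperty.pullback_snd (f ≫ g) _ ‹Smooth (f ≫ g)›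
  haveI : IsLocallyNoetherian (Spec (S.residueField s)) := inferInstance
  have hK : ∀ t : Spec (CommRingCat.of (S.residueField s)), IsRegularLocalRing ((Spec (CommRingCat.of (S.residueField s))).presheaf.stalk t) :=
    GrothLib.WeilExt.isRegularLocalRing_stalk_spec _
  have hc1 : IsPullback ((f ≫ g).fiberι s) ((f ≫ g).fiberToSpecResidueField s) (f ≫ g) (S.fromSpecResidueField s) :=
    IsPullback.of_hasPullback _ _
  have hc2 : IsPullback (g.fiberι s) (g.fiberToSpecResidueField s) g (S.fromSpecResidueField s) :=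
    IsPullback.of_hasPullback _ _
  refine Flat.of_stalkMap m fun z => flat_stalkMap_of_lqf_localDim m (g.fiberToSpecResidueField s) z
    (GrothLib.WeilExt.isRegularLocalRing_stalk_of_smooth ((f ≫ g).fiberToSpecResidueField s) hK z)
    (GrothLib.WeilExt.isRegularLocalRing_stalk_of_smooth (g.fiberToSpecResidueField s) hK _) ?_
  haveI : Subsingleton ↥(Spec (S.residueField s)) := inferInstance
  rw [← GrothLib.AlgSp.fibreDimAt_eq_localDim_of_subsingleton ((f ≫ g).fiberToSpecResidueField s) z,
    ← GrothLib.AlgSp.fibreDimAt_eq_localDim_of_subsingleton (g.fiberToSpecResidueField s) (m z),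
    GrothLib.AlgSp.fibreDimAt_of_isPullback hc1, GrothLib.AlgSp.fibreDimAt_of_isPullback hc2]
  have hfac : m ≫ g.fiberι s = (f ≫ g).fiberι s ≫ f := pullback.lift_fst ..
  rw [← Scheme.Hom.comp_apply, hfac, Scheme.Hom.comp_apply]
  exact hd _

/-- A flat morphism preserving fibre dimensions is quasi-finite. -/
theorem lqf_of_flat (f : X ⟶ Y) (g : Y ⟶ S) [LocallyOfFiniteType g] [LocallyOfFiniteType f] [Flat f] [Smooth (f ≫ g)]
    (hd : ∀ x, FlatMor.fibreDimAt (f ≫ g) x = FlatMor.fibreDimAt g (f x)) : LocallyQuasiFinite f := by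
  refine (GrothLib.AlgSp.lqf_iff_fibreDimAt f).2 fun x => ?_
  have h := (GrothLib.Equidim6.fibreDimAt_comp_le f g x).2 (Flat.stalkMap f x)
  obtain ⟨n, hn⟩ := exists_nat_fibreDimAt (f ≫ g) x
  rw [← hd x, hn, add_comm] at h
  exact (GrothLib.UnrMono.natCast_add_left_cancel n (h.symm.trans (add_zero (n : WithBot ℕ∞)).symm)).le

end GrothLib.NeronIsog24
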