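import Groth.Agent.Lib.NeronIsog24.Main
import Groth.Agent.Lib.CartTorsor.StabDim
import Groth.Agent.Lib.Neutral.QCHom

/-!
# Quasi-finite homomorphisms between smooth groups of the same dimension over a field
-/

set_option autoImplicit false
set_option linter.style.haveILetI false
set_option backward.isDefEq.respectTransparency false
set_option backward.isDefEq.respectTransparency.types false

universe u

open CategoryTheory CategoryTheory.Limits MonoidalCategory CartesianMonoidalCategory MonObj AlgebraicGeometry

namespace GrothLib.NeronIsog24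

variable {K : Type u} [Field K] {G H : Over (Spec (CommRingCat.of K))} [GrpObj G] [GrpObj H]

/-- Between smooth groups of the same dimension a homomorphism is quasi-finite iff it maps the identity
component onto the identity component. -/
theorem lqf_iff_image_connectedComponent (u : G ⟶ H) [IsMonHom u] [Smooth G.hom] [Smooth H.hom] [QuasiCompact u.left]
    (hd : ∀ a : G.left, FlatMor.fibreDimAt G.hom a = FlatMor.fibreDimAt H.hom (u.left a)) :
    LocallyQuasiFinite u.left ↔
      u.left.base '' connectedComponent (η[G].left.base (IsLocalRing.closedPoint K)) =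
        connectedComponent (η[H].left.base (IsLocalRing.closedPoint K)) := by
  haveI : Smooth (u.left ≫ H.hom) := by rw [Over.w]; infer_instance
  haveI : LocallyOfFiniteType u.left := locallyOfFiniteType_of_comp u.left H.hom
  set eG : G.left := η[G].left.base (IsLocalRing.closedPoint K) with heG
  set eH : H.left := η[H].left.base (IsLocalRing.closedPoint K) with heH
  have he : u.left eG = eH := by
    rw [heG, heH]
    show u.left (η[G].left (IsLocalRing.closedPoint K)) = η[H].left (IsLocalRing.closedPoint K)
    rw [← Scheme.Hom.comp_apply, ← Over.comp_left, IsMonHom.one_hom]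
  haveI : IsLocallyNoetherian G.left := LocallyOfFiniteType.isLocallyNoetherian G.hom
  haveI : IsLocallyNoetherian H.left := LocallyOfFiniteType.isLocallyNoetherian H.hom
  constructor
  · intro hq
    haveI : Flat u.left := flat_of_lqf u.left H.hom fun x => by simpa only [Over.w] using hd x
    haveI : IsFinite u.left := GrothLib.Neutral.isFinite_of_quasiCompact u
    haveI : LocallyOfFinitePresentation u.left := inferInstance
    have hO : IsOpen (connectedComponent eG) := by
      rw [GrothLib.GrpSchField.connectedComponent_eq_irreducibleComponent]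
      exact GrothLib.GrpSchField.isOpen_of_mem_irreducibleComponents G
        (irreducibleComponent_mem_irreducibleComponents _)
    have hsub : u.left.base '' connectedComponent eG ⊆ connectedComponent eH := by
      rw [← he]
      exact u.left.continuous.image_connectedComponent_subset eG
    refine hsub.antisymm (IsClopen.connectedComponent_subset ⟨?_, ?_⟩ ?_)
    · exact u.left.isClosedMap _ isClosed_connectedComponent
    · exact u.left.isOpenMap _ hO
    · exact ⟨eG, mem_connectedComponent, he⟩
  · intro himg
    obtain ⟨c, hc⟩ := QuasiSober.sober (isIrreducible_irreducibleComponent (x := eH))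
      isClosed_irreducibleComponent
    have hmax : ∀ w : H.left, w ⤳ c → c ⤳ w := fun w hw => by
      refine hc.specializes ?_
      have h1 : irreducibleComponent eH ⊆ closure {w} := by
        rw [← hc.def]
        exact closure_minimal (Set.singleton_subset_iff.2 hw.mem_closure) isClosed_closure
      rw [(irreducibleComponent_mem_irreducibleComponents eH).eq_of_subset isIrreducible_singleton.closure h1]
      exact subset_closure (Set.mem_singleton w)
    have hdimc : ringKrullDim (H.left.presheaf.stalk c) = 0 := by
      rw [ringKrullDim_stalk_eq_coheight, Order.coheight_eq_zero.2 fun w hw =>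
        Scheme.le_iff_specializes.2 (hmax w (Scheme.le_iff_specializes.1 hw))]
      rfl
    have hcmem : c ∈ connectedComponent eH := by
      rw [GrothLib.GrpSchField.connectedComponent_eq_irreducibleComponent, ← hc.def]
      exact subset_closure (Set.mem_singleton c)
    obtain ⟨ξ, -, rfl⟩ := himg.ge hcmem
    haveI : Subsingleton ↥(Spec (CommRingCat.of K)) := inferInstanceAs (Subsingleton (PrimeSpectrum K))
    have hpt : ∀ z : u.left.fiber (u.left ξ), GrothLib.AffDom.ptDim z ≤ 0 := by
      intro z
      obtain ⟨a, ha⟩ : ∃ a, a = u.left.fiberι (u.left ξ) z := ⟨_, rfl⟩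
      have hua : u.left a = u.left ξ := by
        have : a ∈ Set.range (u.left.fiberι (u.left ξ)) := ⟨z, ha.symm⟩
        rw [Scheme.Hom.range_fiberι] at this
        exact this
      have h1 := GrothLib.AffDom.ptDim_fiberι u.left H.hom (u.left ξ) z
      rw [← ha] at h1
      have h2 : GrothLib.AffDom.ptDim a ≤ FlatMor.localDim G.left a := by
        rw [GrothLib.AffDom.localDim_eq G.hom a]
        exact le_add_of_nonneg_right ringKrullDim_nonneg_of_nontrivial
      have h3 : FlatMor.localDim G.left a = GrothLib.AffDom.ptDim (u.left ξ) := by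
        rw [← GrothLib.AlgSp.fibreDimAt_eq_localDim_of_subsingleton G.hom a, hd a, hua,
          GrothLib.AlgSp.fibreDimAt_eq_localDim_of_subsingleton H.hom (u.left ξ),
          GrothLib.AffDom.localDim_eq H.hom (u.left ξ), hdimc, add_zero]
      rw [h3, h1] at h2
      obtain ⟨n, hn⟩ := GrothLib.AffDom.exists_nat_ptDim H.hom (u.left ξ)
      rw [hn] at h2
      rcases hz : GrothLib.AffDom.ptDim z with _ | m
      · exact bot_le
      · rw [hz] at h2
        have h4 : ((n : ℕ∞) + m : ℕ∞) ≤ (n : ℕ∞) := WithBot.coe_le_coe.1 h2
        exact WithBot.coe_le_coe.2 ((ENat.addLECancellable_of_ne_top (ENat.coe_ne_top n)) (h4.trans (add_zero _).ge))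
    have hfib : FlatMor.fibreDimAt u.left ξ ≤ 0 :=
      (GrothLib.AlgSp.localDim_le_topologicalKrullDim (Z := ↥(u.left.fiber (u.left ξ))) (u.left.asFiber ξ)).trans
        ((GrothLib.AffDom.topologicalKrullDim_eq_iSup_ptDim _).trans_le (iSup_le hpt))
    let i : pullback u η[H] ⟶ G := pullback.fst u η[H]
    have hK : AlgGrp.IsKernel i u := by
      show IsPullback _ _ _ _
      rw [Subsingleton.elim (toUnit _) (pullback.snd u η[H])]
      exact IsPullback.of_hasPullback u η[H]
    obtain ⟨_, _⟩ := GrothLib.GrpDeligne.exists_grpObj_kernel u i hK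
    obtain ⟨ψ, -, h2⟩ := GrothLib.KerDiag14.exists_squares u i hK
    have sqP : IsPullback (pullback.fst u u).left (pullback.snd u u).left u.left u.left :=
      (IsPullback.of_hasPullback u u).map (Over.forget _)
    have sqK : IsPullback (pullback.fst u u).left ψ.left G.hom (pullback u η[H]).hom := by
      have := h2.map (Over.forget (Spec (CommRingCat.of K)))
      simpa using this
    haveI : LocallyOfFiniteType (pullback u η[H]).hom :=
      MorphismProperty.of_isPullback (GrothLib.KerDiag14.mapped_squares u i hK).2.2 ‹LocallyOfFiniteType u.left›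
    obtain ⟨p₀, hp₀1, hp₀⟩ := Scheme.Pullback.exists_preimage_pullback (f := u.left) (g := u.left) ξ ξ rfl
    obtain ⟨p, hpdef⟩ : ∃ p, p = sqP.isoPullback.inv p₀ := ⟨_, rfl⟩
    have hp : (pullback.snd u u).left p = ξ := by
      rw [hpdef, ← Scheme.Hom.comp_apply, sqP.isoPullback_inv_snd]
      exact hp₀
    have hp1 : FlatMor.fibreDimAt (pullback.fst u u).left p = FlatMor.fibreDimAt u.left ξ :=
      (GrothLib.AlgSp.fibreDimAt_of_isPullback sqP.flip p).trans (congrArg (FlatMor.fibreDimAt u.left) hp)
    have hk : FlatMor.fibreDimAt (pullback u η[H]).hom (ψ.left p) ≤ 0 := by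
      rw [← GrothLib.AlgSp.fibreDimAt_of_isPullback sqK.flip p, hp1]
      exact hfib
    rw [GrothLib.AlgSp.fibreDimAt_eq_localDim_of_subsingleton,
      GrothLib.CartTorsor.localDim_eq_dim (pullback u η[H])] at hk
    haveI : LocallyQuasiFinite (pullback u η[H]).hom := (GrothLib.AlgSp.lqf_iff_fibreDimAt _).2 fun k => by
      rw [GrothLib.AlgSp.fibreDimAt_eq_localDim_of_subsingleton, GrothLib.CartTorsor.localDim_eq_dim (pullback u η[H])]
      exact hk
    exact (GrothLib.KerDiag14.lqf_iff u i hK).2.1.2 inferInstance

end GrothLib.NeronIsog24
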