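import Groth.Agent.Lib.NeronIsog24.Dim
import Groth.Agent.Lib.GrpSchField.HomFlat
import Groth.Agent.Lib.KerDiag14.Basic
import Groth.Agent.Lib.GrpDeligne.Factor
import Groth.Agent.Lib.FibreLocus.Hom
import Groth.Prelude.Def_Neron
import Groth.Prelude.Def_SGA7IX

/-!
# Homomorphisms of smooth groups which are isogenies on the generic fibre
-/

set_option autoImplicit false
set_option linter.style.haveILetI false
set_option backward.isDefEq.respectTransparency false
set_option backward.isDefEq.respectTransparency.types false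

universe u

open CategoryTheory CategoryTheory.Limits MonoidalCategory CartesianMonoidalCategory MonObj AlgebraicGeometry

namespace GrothLib.NeronIsog24

/-- An isogeny of a proper group over a field to a smooth one is finite and flat. -/
theorem isogeny_field {K : Type u} [Field K] {G H : Over (Spec (CommRingCat.of K))} [GrpObj G] [GrpObj H]
    (u : G ⟶ H) [IsMonHom u] [IsProper G.hom] [IsProper H.hom] [Smooth H.hom] (hu : SGA7.IsIsogenyOver u) :
    IsFinite u.left ∧ Flat u.left := by
  obtain ⟨hs, hN⟩ := hu
  haveI := hs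
  let i : pullback u η[H] ⟶ G := pullback.fst u η[H]
  have hK : AlgGrp.IsKernel i u := by
    show IsPullback _ _ _ _
    rw [Subsingleton.elim (toUnit _) (pullback.snd u η[H])]
    exact IsPullback.of_hasPullback u η[H]
  obtain ⟨_, _⟩ := GrpDeligne.exists_grpObj_kernel u i hK
  haveI := hN _ i hK
  haveI : IsProper u.left := by
    haveI : IsProper (u.left ≫ H.hom) := by rw [Over.w]; infer_instance
    exact IsProper.of_comp u.left H.hom
  haveI : LocallyQuasiFinite u.left := (GrothLib.KerDiag14.lqf_iff u i hK).2.1.2 inferInstance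
  haveI : IsReduced H.left := GrothLib.WeilExt.isReduced_of_isRegular _
    (GrothLib.WeilExt.isRegularLocalRing_stalk_of_smooth H.hom (GrothLib.WeilExt.isRegularLocalRing_stalk_spec K))
  exact ⟨(IsFinite.iff_isProper_and_locallyQuasiFinite _).2 ⟨inferInstance, inferInstance⟩,
    GrothLib.GrpSchField.flat_hom u⟩

variable (R : Type u) [CommRing R] [IsDomain R]

/-- The fibre dimensions correspond along a morphism which is quasi-finite and flat on the generic fibre. -/
theorem fibreDimAt_eq (A B : Over (Spec (CommRingCat.of R))) [Smooth A.hom] [Smooth B.hom] (φ : A ⟶ B)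
    [LocallyQuasiFinite ((Neron.genericFibre R).map φ).left] [Flat ((Neron.genericFibre R).map φ).left] (x : A.left) :
    FlatMor.fibreDimAt A.hom x = FlatMor.fibreDimAt B.hom (φ.left x) := by
  obtain ⟨ξ, hξ⟩ : ∃ ξ : Spec (CommRingCat.of R), ξ = (⊥ : PrimeSpectrum R) := ⟨_, rfl⟩
  have hgen : ξ ⤳ A.hom x := by
    rw [hξ, ← PrimeSpectrum.le_iff_specializes]
    exact bot_le
  obtain ⟨x', hx', hx'ξ⟩ := Flat.generalizingMap A.hom hgen
  obtain ⟨z, hz, -⟩ := Scheme.Pullback.exists_preimage_pullback (f := A.hom) (g := Neron.genPt R) x'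
    (IsLocalRing.closedPoint (FractionRing R)) (by
      rw [hx'ξ, hξ]
      refine (PrimeSpectrum.ext ?_).symm
      show Ideal.comap (algebraMap R (FractionRing R)) (IsLocalRing.maximalIdeal (FractionRing R)) = ⊥
      rw [IsLocalRing.isField_iff_maximalIdeal_eq.1 (Field.toIsField _)]
      exact Ideal.comap_bot_of_injective _ (IsFractionRing.injective R (FractionRing R)))
  rw [← fibreDimAt_eq_of_specializes A.hom hx', ← fibreDimAt_eq_of_specializes B.hom (hx'.map φ.left.continuous)]
  let φK := (Neron.genericFibre R).map φ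
  haveI : Smooth ((Neron.genericFibre R).obj A).hom := MorphismProperty.pullback_snd A.hom _ ‹Smooth A.hom›
  haveI : Smooth ((Neron.genericFibre R).obj B).hom := MorphismProperty.pullback_snd B.hom _ ‹Smooth B.hom›
  haveI : LocallyOfFiniteType φK.left := by
    haveI : LocallyOfFiniteType (φK.left ≫ ((Neron.genericFibre R).obj B).hom) := by rw [Over.w]; infer_instance
    exact locallyOfFiniteType_of_comp φK.left ((Neron.genericFibre R).obj B).hom
  have hA : IsPullback (pullback.fst A.hom (Neron.genPt R)) ((Neron.genericFibre R).obj A).hom A.hom (Neron.genPt R) :=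
    IsPullback.of_hasPullback _ _
  have hB : IsPullback (pullback.fst B.hom (Neron.genPt R)) ((Neron.genericFibre R).obj B).hom B.hom (Neron.genPt R) :=
    IsPullback.of_hasPullback _ _
  have hw : φK.left ≫ pullback.fst B.hom (Neron.genPt R) = pullback.fst A.hom (Neron.genPt R) ≫ φ.left :=
    pullback.lift_fst _ _ _
  have h1 := GrothLib.AlgSp.fibreDimAt_of_isPullback hA z
  have h2 := GrothLib.AlgSp.fibreDimAt_of_isPullback hB (φK.left z)
  have h3 := GrothLib.CMMor6.fibreDimAt_comp_flat_lqf φK.left ((Neron.genericFibre R).obj B).hom z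
  rw [Over.w] at h3
  rw [← hz, ← h1, h3, h2]
  exact congrArg (FlatMor.fibreDimAt B.hom) congr($hw z)

/-- For smooth groups with an isogeny on the generic fibre, quasi-finite and flat agree. -/
theorem lqf_iff_flat (A B : Over (Spec (CommRingCat.of R))) [GrpObj A] [GrpObj B] [Smooth A.hom] [Smooth B.hom]
    [IsProper ((Neron.genericFibre R).obj A).hom] [IsProper ((Neron.genericFibre R).obj B).hom]
    (φ : A ⟶ B) [IsMonHom φ] (hφ : SGA7.IsIsogenyOver ((Neron.genericFibre R).map φ)) :
    LocallyQuasiFinite φ.left ↔ Flat φ.left := by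
  haveI : Smooth ((Neron.genericFibre R).obj B).hom := MorphismProperty.pullback_snd B.hom _ ‹Smooth B.hom›
  obtain ⟨_, _⟩ := isogeny_field _ hφ
  have hd := fibreDimAt_eq R A B φ
  haveI : Smooth (φ.left ≫ B.hom) := by rw [Over.w]; infer_instance
  haveI : LocallyOfFiniteType φ.left := locallyOfFiniteType_of_comp φ.left B.hom
  exact ⟨fun _ => flat_of_lqf φ.left B.hom fun x => by simpa only [Over.w] using hd x,
    fun _ => lqf_of_flat φ.left B.hom fun x => by simpa only [Over.w] using hd x⟩

end GrothLib.NeronIsog24
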