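import Groth.Agent.Lib.NeronIsog24.Field
import Groth.Prelude.Def_Red

/-!
# Over a discrete valuation ring quasi-finiteness is read on the special fibre
-/

set_option autoImplicit false
set_option linter.style.haveILetI false
set_option backward.isDefEq.respectTransparency false
set_option backward.isDefEq.respectTransparency.types false

universe u

open CategoryTheory CategoryTheory.Limits MonoidalCategory CartesianMonoidalCategory MonObj AlgebraicGeometry IsLocalRing

namespace GrothLib.NeronIsog24

variable (R : Type u) [CommRing R] [IsDomain R] [IsDiscreteValuationRing R]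

theorem comap_bot_eq : Ideal.comap (algebraMap R (FractionRing R)) (maximalIdeal (FractionRing R)) = ⊥ := by
  rw [IsLocalRing.isField_iff_maximalIdeal_eq.1 (Field.toIsField _)]
  exact Ideal.comap_bot_of_injective _ (IsFractionRing.injective R (FractionRing R))

theorem comap_residue_eq : Ideal.comap (residue R) (maximalIdeal (ResidueField R)) = maximalIdeal R := by
  rw [IsLocalRing.isField_iff_maximalIdeal_eq.1 (Field.toIsField _)]
  exact Ideal.mk_ker

/-- Every point lies over the generic or over the closed point. -/
theorem exists_preimage (A : Over (Spec (CommRingCat.of R))) (x : A.left) :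
    (∃ z, pullback.fst A.hom (Neron.genPt R) z = x) ∨
      ∃ z, pullback.fst A.hom (Spec.map (CommRingCat.ofHom (residue R))) z = x := by
  by_cases h : ((A.hom x : PrimeSpectrum R)).asIdeal = ⊥
  · left
    obtain ⟨z, hz, -⟩ := Scheme.Pullback.exists_preimage_pullback (f := A.hom) (g := Neron.genPt R) x
      (closedPoint (FractionRing R)) (PrimeSpectrum.ext (h.trans (comap_bot_eq R).symm))
    exact ⟨z, hz⟩
  · right
    have hm : ((A.hom x : PrimeSpectrum R)).asIdeal = maximalIdeal R :=
      eq_maximalIdeal (((A.hom x : PrimeSpectrum R)).isPrime.isMaximal h)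
    obtain ⟨z, hz, -⟩ := Scheme.Pullback.exists_preimage_pullback (f := A.hom)
      (g := Spec.map (CommRingCat.ofHom (residue R))) x (closedPoint (ResidueField R))
      (PrimeSpectrum.ext (hm.trans (comap_residue_eq R).symm))
    exact ⟨z, hz⟩

variable {A B : Over (Spec (CommRingCat.of R))} (φ : A ⟶ B) [LocallyOfFiniteType φ.left]

theorem lqf_iff_special [LocallyQuasiFinite ((Neron.genericFibre R).map φ).left] :
    LocallyQuasiFinite φ.left ↔
      LocallyQuasiFinite ((Over.pullback (Spec.map (CommRingCat.ofHom (residue R)))).map φ).left := by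
  have s0 := GrothLib.FibreLocus.isPullback_map_left φ (Neron.genPt R)
  have s1 := GrothLib.FibreLocus.isPullback_map_left φ (Spec.map (CommRingCat.ofHom (residue R)))
  refine ⟨fun h => MorphismProperty.of_isPullback s1.flip h, fun h => ?_⟩
  haveI : LocallyOfFiniteType ((Neron.genericFibre R).map φ).left := MorphismProperty.of_isPullback s0.flip ‹_›
  haveI : LocallyOfFiniteType ((Over.pullback (Spec.map (CommRingCat.ofHom (residue R)))).map φ).left :=
    MorphismProperty.of_isPullback s1.flip ‹_›
  refine (GrothLib.AlgSp.lqf_iff_fibreDimAt φ.left).2 fun x => ?_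
  rcases exists_preimage R A x with ⟨z, rfl⟩ | ⟨z, rfl⟩
  · exact (GrothLib.AlgSp.fibreDimAt_of_isPullback s0.flip z).symm.trans_le ((GrothLib.AlgSp.lqf_iff_fibreDimAt _).1 ‹LocallyQuasiFinite ((Neron.genericFibre R).map φ).left› z)
  · exact (GrothLib.AlgSp.fibreDimAt_of_isPullback s1.flip z).symm.trans_le ((GrothLib.AlgSp.lqf_iff_fibreDimAt _).1 h z)

/-- Fibre dimensions on the special fibre correspond. -/
theorem fibreDimAt_eq_special [Smooth A.hom] [Smooth B.hom]
    [LocallyQuasiFinite ((Neron.genericFibre R).map φ).left] [Flat ((Neron.genericFibre R).map φ).left]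
    (a : ((Over.pullback (Spec.map (CommRingCat.ofHom (residue R)))).obj A).left) :
    FlatMor.fibreDimAt ((Over.pullback (Spec.map (CommRingCat.ofHom (residue R)))).obj A).hom a =
      FlatMor.fibreDimAt ((Over.pullback (Spec.map (CommRingCat.ofHom (residue R)))).obj B).hom
        (((Over.pullback (Spec.map (CommRingCat.ofHom (residue R)))).map φ).left a) := by
  have hA : IsPullback (pullback.fst A.hom (Spec.map (CommRingCat.ofHom (residue R))))
      ((Over.pullback (Spec.map (CommRingCat.ofHom (residue R)))).obj A).hom A.hom (Spec.map (CommRingCat.ofHom (residue R))) :=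
    IsPullback.of_hasPullback _ _
  have hB : IsPullback (pullback.fst B.hom (Spec.map (CommRingCat.ofHom (residue R))))
      ((Over.pullback (Spec.map (CommRingCat.ofHom (residue R)))).obj B).hom B.hom (Spec.map (CommRingCat.ofHom (residue R))) :=
    IsPullback.of_hasPullback _ _
  have hw : ((Over.pullback (Spec.map (CommRingCat.ofHom (residue R)))).map φ).left ≫
      pullback.fst B.hom (Spec.map (CommRingCat.ofHom (residue R))) =
      pullback.fst A.hom (Spec.map (CommRingCat.ofHom (residue R))) ≫ φ.left := pullback.lift_fst _ _ _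
  rw [GrothLib.AlgSp.fibreDimAt_of_isPullback hA a, GrothLib.AlgSp.fibreDimAt_of_isPullback hB _,
    fibreDimAt_eq R A B φ]
  exact congrArg (FlatMor.fibreDimAt B.hom) congr($hw a).symm

end GrothLib.NeronIsog24
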